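import Cfsg.Agent.Lib.SymPres.Coxeter

/-!
# Central extensions of alternating groups: the generators of Moore
-/

set_option autoImplicit false
set_option linter.style.haveILetI false
set_option linter.unusedSectionVars false

namespace Cfsg.Agent.AltMult

open Equiv

variable {n : ℕ}

/-- The transposition of two naturals, seen in `Fin n`. -/
def swp (n i j : ℕ) : Perm (Fin n) :=
  if h : i < n ∧ j < n then swap ⟨i, h.1⟩ ⟨j, h.2⟩ else 1

/-- Moore's generators. -/
def mgen (n i : ℕ) : Perm (Fin n) := swp n 0 1 * swp n i (i + 1)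


theorem swp_def {i j : ℕ} (hi : i < n) (hj : j < n) : swp n i j = swap ⟨i, hi⟩ ⟨j, hj⟩ :=
  dif_pos ⟨hi, hj⟩

theorem sign_swp {i j : ℕ} (hi : i < n) (hj : j < n) (h : i ≠ j) :
    Perm.sign (swp n i j) = -1 := by
  rw [swp_def hi hj, Perm.sign_swap fun e => h (congrArg Fin.val e)]

theorem sign_two {i j k l : ℕ} (hi : i < n) (hj : j < n) (hk : k < n) (hl : l < n)
    (hij : i ≠ j) (hkl : k ≠ l) : Perm.sign (swp n i j * swp n k l) = 1 := by
  rw [map_mul, sign_swp hi hj hij, sign_swp hk hl hkl]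
  rfl

theorem swp_sq (i j : ℕ) : swp n i j * swp n i j = 1 := by
  unfold swp
  split_ifs
  · exact Equiv.swap_mul_self _ _
  · rw [one_mul]

theorem conj_swp (g : Perm (Fin n)) {i j : ℕ} (hi : i < n) (hj : j < n) :
    g * swp n i j * g⁻¹ = swap (g ⟨i, hi⟩) (g ⟨j, hj⟩) := by
  rw [swp_def hi hj]
  exact (Equiv.swap_apply_apply g ⟨i, hi⟩ ⟨j, hj⟩).symm

/-- A central extension of the alternating group inside the symmetric group. -/
structure Ext {X : Type*} [Group X] (π : X →* Perm (Fin n)) : Prop where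
  central : π.ker ≤ Subgroup.center X
  comm : π.ker ≤ commutator X
  lift : ∀ σ : Perm (Fin n), Perm.sign σ = 1 → ∃ x, π x = σ
  even : ∀ x, Perm.sign (π x) = 1

namespace Ext

variable {X : Type*} [Group X] {π : X →* Perm (Fin n)} (E : Ext π)
include E

theorem cen {z : X} (hz : π z = 1) (x : X) : Commute z x :=
  (Subgroup.mem_center_iff.mp (E.central (MonoidHom.mem_ker.mpr hz)) x).symm

theorem exists_mul {x y : X} (h : π x = π y) : ∃ t, π t = 1 ∧ x = y * t :=
  ⟨y⁻¹ * x, by rw [map_mul, map_inv, h, inv_mul_cancel], (mul_inv_cancel_left y x).symm⟩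

theorem commute_of_eq {x y y' : X} (h : π y' = π y) (hc : Commute x y) : Commute x y' := by
  obtain ⟨t, ht, rfl⟩ := E.exists_mul h
  exact hc.mul_right (E.cen ht x).symm

theorem commute_conj {x y x' y' : X} {g : Perm (Fin n)} (hg : Perm.sign g = 1)
    (hx : π x' = g * π x * g⁻¹) (hy : π y' = g * π y * g⁻¹) (hc : Commute x y) :
    Commute x' y' := by
  obtain ⟨G, rfl⟩ := E.lift g hg
  have h1 : Commute (G * x * G⁻¹) (G * y * G⁻¹) := (commute_iff_eq _ _).mpr (by
    rw [conj_mul, conj_mul, hc.eq])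
  have h2 : Commute (G * x * G⁻¹) y' := E.commute_of_eq (by simp [hy]) h1
  exact (E.commute_of_eq (by simp [hx]) h2.symm).symm

end Ext

/-- Permutations of `Fin k` act on `Fin n` through an increasing list of points. -/
noncomputable def phi {k : ℕ} (v : Fin k → ℕ) (hv : StrictMono v) (hn : ∀ x, v x < n) :
    Perm (Fin k) →* Perm (Fin n) :=
  Perm.extendDomainHom (Equiv.ofInjective (fun x => (⟨v x, hn x⟩ : Fin n))
    fun _ _ h => hv.injective (congrArg Fin.val h))

theorem phi_swap {k : ℕ} {v : Fin k → ℕ} {hv : StrictMono v} {hn : ∀ x, v x < n} (a b : Fin k) :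
    phi v hv hn (swap a b) = swp n (v a) (v b) := by
  rw [swp_def (hn a) (hn b)]
  refine Equiv.ext fun x => ?_
  show (swap a b).extendDomain _ x = _
  by_cases hx : x ∈ Set.range (fun y => (⟨v y, hn y⟩ : Fin n))
  · obtain ⟨y, rfl⟩ := hx
    have key := Perm.extendDomain_apply_image (swap a b) (Equiv.ofInjective
      (fun y => (⟨v y, hn y⟩ : Fin n)) fun _ _ h => hv.injective (congrArg Fin.val h)) y
    refine key.trans ?_
    show (⟨v (swap a b y), hn _⟩ : Fin n) = swap (⟨v a, hn a⟩ : Fin n) ⟨v b, hn b⟩ ⟨v y, hn y⟩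
    by_cases h1 : y = a
    · subst h1; rw [swap_apply_left, swap_apply_left]
    by_cases h2 : y = b
    · subst h2; rw [swap_apply_right, swap_apply_right]
    rw [swap_apply_of_ne_of_ne h1 h2, swap_apply_of_ne_of_ne (fun e => h1 (hv.injective (congrArg Fin.val e)))
      fun e => h2 (hv.injective (congrArg Fin.val e))]
  · rw [Perm.extendDomain_apply_not_subtype _ _ hx, Equiv.swap_apply_of_ne_of_ne]
    · exact fun h => hx ⟨a, h.symm⟩
    · exact fun h => hx ⟨b, h.symm⟩

theorem strictMono_cons {k : ℕ} (v : Fin (k + 1) → ℕ) (h : ∀ i : Fin k, v i.castSucc < v i.succ) :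
    StrictMono v := Fin.strictMono_iff_lt_succ.mpr h

theorem mgen_one_cube (h : 3 ≤ n) : mgen n 1 * mgen n 1 * mgen n 1 = 1 := by
  let v : Fin 3 → ℕ := ![0, 1, 2]
  have hv : StrictMono v := strictMono_cons v fun i => by fin_cases i <;> simp [v]
  have hn : ∀ x, v x < n := fun x => by fin_cases x <;> simp [v] <;> omega
  have e : mgen n 1 = phi v hv hn (swap 0 1 * swap 1 2) := by rw [map_mul, phi_swap, phi_swap]; rfl
  rw [e, ← map_mul, ← map_mul,
    show (swap (0 : Fin 3) 1 * swap 1 2) * (swap 0 1 * swap 1 2) * (swap 0 1 * swap 1 2) = 1 by decide,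
    map_one]

theorem mgen_sq {i : ℕ} (hi : 2 ≤ i) (h : i + 1 < n) : mgen n i * mgen n i = 1 := by
  let v : Fin 4 → ℕ := ![0, 1, i, i + 1]
  have hv : StrictMono v := strictMono_cons v fun j => by fin_cases j <;> simp [v] <;> omega
  have hn : ∀ x, v x < n := fun x => by fin_cases x <;> simp [v] <;> omega
  have e : mgen n i = phi v hv hn (swap 0 1 * swap 2 3) := by rw [map_mul, phi_swap, phi_swap]; rfl
  rw [e, ← map_mul, show (swap (0 : Fin 4) 1 * swap 2 3) * (swap 0 1 * swap 2 3) = 1 by decide, map_one]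

theorem mgen_braid {i : ℕ} (hi : 2 ≤ i) (h : i + 2 < n) :
    mgen n i * mgen n (i + 1) * mgen n i = mgen n (i + 1) * mgen n i * mgen n (i + 1) := by
  let v : Fin 5 → ℕ := ![0, 1, i, i + 1, i + 1 + 1]
  have hv : StrictMono v := strictMono_cons v fun j => by fin_cases j <;> simp [v] <;> omega
  have hn : ∀ x, v x < n := fun x => by fin_cases x <;> simp [v] <;> omega
  have e : mgen n i = phi v hv hn (swap 0 1 * swap 2 3) := by rw [map_mul, phi_swap, phi_swap]; rfl
  have e' : mgen n (i + 1) = phi v hv hn (swap 0 1 * swap 3 4) := by rw [map_mul, phi_swap, phi_swap]; rfl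
  rw [e, e', ← map_mul, ← map_mul, ← map_mul, ← map_mul]
  refine congrArg (phi v hv hn) ?_
  decide

theorem mgen_invert {j : ℕ} (hj : 3 ≤ j) (h : j + 1 < n) :
    mgen n j * mgen n 1 * mgen n j * mgen n 1 = 1 := by
  let v : Fin 5 → ℕ := ![0, 1, 2, j, j + 1]
  have hv : StrictMono v := strictMono_cons v fun i => by fin_cases i <;> simp [v] <;> omega
  have hn : ∀ x, v x < n := fun x => by fin_cases x <;> simp [v] <;> omega
  have e1 : mgen n 1 = phi v hv hn (swap 0 1 * swap 1 2) := by rw [map_mul, phi_swap, phi_swap]; rfl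
  have e : mgen n j = phi v hv hn (swap 0 1 * swap 3 4) := by rw [map_mul, phi_swap, phi_swap]; rfl
  rw [e1, e, ← map_mul, ← map_mul, ← map_mul, ← map_one (phi v hv hn)]
  refine congrArg (phi v hv hn) ?_
  decide

/-- `(0 3)(1 2)`, the conjugate of `(0 1)(2 3)` by the three-cycle. -/
def bgen (n : ℕ) : Perm (Fin n) := swp n 0 3 * swp n 1 2

theorem four_point (h : 4 ≤ n) :
    mgen n 1 * mgen n 2 * (mgen n 1)⁻¹ = bgen n ∧
      mgen n 1 * bgen n * (mgen n 1)⁻¹ = mgen n 2 * bgen n := by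
  let v : Fin 4 → ℕ := ![0, 1, 2, 3]
  have hv : StrictMono v := strictMono_cons v fun j => by fin_cases j <;> simp [v]
  have hn : ∀ x, v x < n := fun x => by fin_cases x <;> simp [v] <;> omega
  have e1 : mgen n 1 = phi v hv hn (swap 0 1 * swap 1 2) := by rw [map_mul, phi_swap, phi_swap]; rfl
  have e2 : mgen n 2 = phi v hv hn (swap 0 1 * swap 2 3) := by rw [map_mul, phi_swap, phi_swap]; rfl
  have e3 : bgen n = phi v hv hn (swap 0 3 * swap 1 2) := by rw [map_mul, phi_swap, phi_swap]; rfl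
  constructor <;> rw [e1, e2, e3, ← map_inv] <;> simp only [← map_mul] <;>
    exact congrArg (phi v hv hn) (by decide)

theorem sq_mixed (h : 6 ≤ n) :
    mgen n 2 * bgen n * mgen n 4 * (mgen n 2 * bgen n * mgen n 4) = mgen n 2 := by
  let v : Fin 6 → ℕ := ![0, 1, 2, 3, 4, 5]
  have hv : StrictMono v := strictMono_cons v fun j => by fin_cases j <;> simp [v]
  have hn : ∀ x, v x < n := fun x => by fin_cases x <;> simp [v] <;> omega
  have e2 : mgen n 2 = phi v hv hn (swap 0 1 * swap 2 3) := by rw [map_mul, phi_swap, phi_swap]; rfl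
  have e3 : bgen n = phi v hv hn (swap 0 3 * swap 1 2) := by rw [map_mul, phi_swap, phi_swap]; rfl
  have e4 : mgen n 4 = phi v hv hn (swap 0 1 * swap 4 5) := by rw [map_mul, phi_swap, phi_swap]; rfl
  rw [e2, e3, e4]
  simp only [← map_mul]
  refine congrArg (phi v hv hn) ?_
  decide

theorem conj_one_swp {a b c d : ℕ} (ha : a < n) (hb : b < n) (hc : c < n) (hd : d < n)
    (ha3 : 3 ≤ a) (hb3 : 3 ≤ b) (hc3 : 3 ≤ c) (hd3 : 3 ≤ d) :
    swp n a b * swp n c d * mgen n 1 = mgen n 1 * (swp n a b * swp n c d) := by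
  set g := swp n a b * swp n c d with hg
  have hfix : ∀ (k : ℕ) (hk : k < n), k ≤ 2 → g ⟨k, hk⟩ = ⟨k, hk⟩ := by
    intro k hk hk2
    rw [hg, swp_def ha hb, swp_def hc hd, Perm.mul_apply, swap_apply_of_ne_of_ne (x := (⟨k, hk⟩ : Fin n)),
      swap_apply_of_ne_of_ne] <;>
      simp only [ne_eq, Fin.ext_iff] <;> omega
  rw [← mul_inv_eq_iff_eq_mul, mgen, ← conj_mul, conj_swp g (by omega) (by omega),
    conj_swp g (by omega) (by omega), hfix 0 _ (by omega), hfix 1 _ (by omega), hfix (1 + 1) _ (by omega),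
    swp_def (by omega) (by omega), swp_def (by omega) (by omega)]

theorem conj_three_four (h : 8 ≤ n) :
    swp n 3 5 * swp n 6 7 * mgen n 3 = mgen n 4 * (swp n 3 5 * swp n 6 7) := by
  let v : Fin 8 → ℕ := ![0, 1, 2, 3, 4, 5, 6, 7]
  have hv : StrictMono v := strictMono_cons v fun j => by fin_cases j <;> simp [v]
  have hn : ∀ x, v x < n := fun x => by fin_cases x <;> simp [v] <;> omega
  have e : swp n 3 5 * swp n 6 7 = phi v hv hn (swap 3 5 * swap 6 7) := by
    rw [map_mul, phi_swap, phi_swap]; rfl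
  have e3 : mgen n 3 = phi v hv hn (swap 0 1 * swap 3 4) := by rw [map_mul, phi_swap, phi_swap]; rfl
  have e4 : mgen n 4 = phi v hv hn (swap 0 1 * swap 4 5) := by rw [map_mul, phi_swap, phi_swap]; rfl
  rw [e, e3, e4, ← map_mul, ← map_mul]
  refine congrArg (phi v hv hn) ?_
  decide

theorem conj_three_far {j : ℕ} (hj : 5 ≤ j) (h : j + 1 < n) :
    swp n 3 j * swp n 4 (j + 1) * mgen n 3 = mgen n j * (swp n 3 j * swp n 4 (j + 1)) := by
  let v : Fin 7 → ℕ := ![0, 1, 2, 3, 4, j, j + 1]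
  have hv : StrictMono v := strictMono_cons v fun i => by fin_cases i <;> simp [v] <;> omega
  have hn : ∀ x, v x < n := fun x => by fin_cases x <;> simp [v] <;> omega
  have e : swp n 3 j * swp n 4 (j + 1) = phi v hv hn (swap 3 5 * swap 4 6) := by
    rw [map_mul, phi_swap, phi_swap]; rfl
  have e3 : mgen n 3 = phi v hv hn (swap 0 1 * swap 3 4) := by rw [map_mul, phi_swap, phi_swap]; rfl
  have e4 : mgen n j = phi v hv hn (swap 0 1 * swap 5 6) := by rw [map_mul, phi_swap, phi_swap]; rfl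
  rw [e, e3, e4, ← map_mul, ← map_mul]
  refine congrArg (phi v hv hn) ?_
  decide

end Cfsg.Agent.AltMult
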