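import Cfsg.Agent.Lib.AltMult.Main

/-!
# Counting through the Coxeter relations of the symmetric group
-/

set_option autoImplicit false
set_option linter.style.haveILetI false
set_option linter.unusedSectionVars false

namespace Cfsg.Agent.AltMult

open Equiv
open scoped commutatorElement

variable {n : ℕ} {X : Type*} [Group X] [Finite X] {π : X →* Perm (Fin n)}

/-- A pair of elements acting on two copies of the group. -/
def pairPerm (x y : X) : Perm (X ⊕ X) := Equiv.sumCongr (Equiv.mulLeft x) (Equiv.mulLeft y)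

/-- The same followed by the exchange of the copies. -/
def twist (x y : X) : Perm (X ⊕ X) := Equiv.sumComm X X * pairPerm x y

theorem pairPerm_mul (x y x' y' : X) :
    pairPerm x y * pairPerm x' y' = pairPerm (x * x') (y * y') := by
  refine Equiv.ext fun w => ?_
  rcases w with w | w <;> simp [pairPerm, mul_assoc]

theorem pairPerm_one : pairPerm (1 : X) 1 = 1 := by
  refine Equiv.ext fun w => ?_
  rcases w with w | w <;> simp [pairPerm]

theorem twist_mul (x y x' y' : X) : twist x y * twist x' y' = pairPerm (y * x') (x * y') := by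
  refine Equiv.ext fun w => ?_
  rcases w with w | w <;> simp [twist, pairPerm, mul_assoc]

theorem pair_twist (p q x y : X) : pairPerm p q * twist x y = twist (q * x) (p * y) := by
  refine Equiv.ext fun w => ?_
  rcases w with w | w <;> simp [twist, pairPerm, mul_assoc]

theorem mgen_closure (hn : 2 ≤ n) (M : Subgroup (Perm (Fin n)))
    (hM : ∀ i, 1 ≤ i → i + 1 < n → mgen n i ∈ M) {σ : Perm (Fin n)} (hσ : Perm.sign σ = 1)
    (hMe : ∀ m ∈ M, Perm.sign m = 1)
    (hconj : ∀ m ∈ M, swp n 0 1 * m * swp n 0 1 ∈ M) : σ ∈ M := by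
  obtain ⟨m, rfl⟩ : ∃ m, n = m + 1 := ⟨n - 1, by omega⟩
  set t := swp (m + 1) 0 1 with ht
  have htt : t * t = 1 := swp_sq 0 1
  let U : Subgroup (Perm (Fin (m + 1))) :=
    { carrier := {g | g ∈ M ∨ t * g ∈ M}
      one_mem' := Or.inl M.one_mem
      mul_mem' := by
        rintro g g' (hg | hg) (hg' | hg')
        · exact Or.inl (M.mul_mem hg hg')
        · refine Or.inr ?_
          have := M.mul_mem (hconj g hg) hg'
          rwa [show t * g * t * (t * g') = t * g * (t * t) * g' by group, htt, mul_one, mul_assoc] at this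
        · exact Or.inr (by rw [← mul_assoc]; exact M.mul_mem hg hg')
        · refine Or.inl ?_
          have := M.mul_mem (hconj _ hg) hg'
          rwa [show t * (t * g) * t * (t * g') = t * t * g * (t * t) * g' by group, htt, one_mul, mul_one] at this
      inv_mem' := by
        rintro g (hg | hg)
        · exact Or.inl (M.inv_mem hg)
        · refine Or.inr ?_
          have := hconj _ (M.inv_mem hg)
          rwa [mul_inv_rev, show t * (g⁻¹ * t⁻¹) * t = t * g⁻¹ by group] at this }
  have hU : SymCoxeter.gen (SymCoxeter.adj m) m ≤ U := by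
    rw [SymCoxeter.gen, Subgroup.closure_le]
    rintro _ ⟨i, (hi : i < m), rfl⟩
    have e : SymCoxeter.adj m i = swp (m + 1) i (i + 1) := by
      rw [swp_def (by omega) (by omega), SymCoxeter.adj, dif_pos hi]
    refine Or.inr ?_
    rw [e]
    rcases Nat.eq_zero_or_pos i with rfl | hi0
    · rw [zero_add, ht, swp_sq]; exact M.one_mem
    · exact hM i hi0 (by omega)
  rw [SymCoxeter.closure_adj] at hU
  rcases hU (Subgroup.mem_top σ) with h | h
  · exact h
  · exfalso
    have := hMe _ h
    rw [map_mul, hσ, mul_one, ht, sign_swp (by omega) (by omega) (by omega)] at this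
    exact absurd this (by decide)

namespace Ext

variable (E : Ext π) (hAB : ∀ A B : X, π A = mgen n 2 → π B = bgen n → Commute A B)
include E hAB

theorem exists_gens (hn : 4 ≤ n) (h67 : n ≠ 6 ∧ n ≠ 7) :
    ∃ g : ℕ → X, (∀ i, 1 ≤ i → i + 1 < n → π (g i) = mgen n i) ∧ g 1 * g 1 * g 1 = 1 ∧
      g 1 * g 2 * (g 1 * g 2) * (g 1 * g 2) = 1 ∧
      (∀ i, 2 ≤ i → i + 1 < n → g i * g i = 1) ∧
      (∀ i, 2 ≤ i → i + 2 < n → g i * g (i + 1) * g i = g (i + 1) * g i * g (i + 1)) ∧
      (∀ j, 3 ≤ j → j + 1 < n → g j * g 1 * (g j)⁻¹ = (g 1)⁻¹) ∧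
      (∀ i j, 2 ≤ i → i + 2 ≤ j → j + 1 < n → g i * g j = g j * g i) := by
  classical
  obtain ⟨S, hS, hS3, hSinv⟩ := E.exists_mgen_one hn h67
  obtain ⟨A, hA, hA2, hSA⟩ := E.exists_mgen_two hAB hn hS hS3
  let seq : ℕ → X := fun k => Nat.rec A (fun k a =>
    if h : ∃ b : X, π b = mgen n (k + 3) ∧ b * b = 1 ∧ a * b * a = b * a * b then h.choose else 1) k
  have hstep : ∀ k, k + 3 < n → (π (seq k) = mgen n (k + 2) ∧ seq k * seq k = 1) ∧
      (k + 4 < n → π (seq (k + 1)) = mgen n (k + 3) ∧ seq (k + 1) * seq (k + 1) = 1 ∧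
        seq k * seq (k + 1) * seq k = seq (k + 1) * seq k * seq (k + 1)) := by
    intro k
    induction k with
    | zero =>
      refine fun _ => ⟨⟨hA, hA2⟩, fun h => ?_⟩
      have hex := E.exists_next hAB (i := 2) le_rfl (by omega) hA hA2
      rw [show seq (0 + 1) = (if h : ∃ b : X, π b = mgen n (0 + 3) ∧ b * b = 1 ∧ A * b * A = b * A * b
        then h.choose else 1) from rfl, dif_pos hex]
      exact hex.choose_spec
    | succ k ih =>
      intro hk
      obtain ⟨-, h2⟩ := ih (by omega)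
      obtain ⟨ha, ha2, -⟩ := h2 (by omega)
      refine ⟨⟨ha, ha2⟩, fun h => ?_⟩
      have hex := E.exists_next hAB (i := k + 3) (by omega) (by omega) ha ha2
      rw [show seq (k + 1 + 1) = (if h : ∃ b : X, π b = mgen n (k + 1 + 3) ∧ b * b = 1 ∧
        seq (k + 1) * b * seq (k + 1) = b * seq (k + 1) * b then h.choose else 1) from rfl, dif_pos hex]
      exact hex.choose_spec
  have hv : ∀ i, 2 ≤ i → i + 1 < n → π (seq (i - 2)) = mgen n i ∧ seq (i - 2) * seq (i - 2) = 1 := by
    intro i hi hin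
    obtain ⟨k, rfl⟩ : ∃ k, i = k + 2 := ⟨i - 2, by omega⟩
    rw [Nat.add_sub_cancel]
    exact (hstep k hin).1
  refine ⟨fun i => if i ≤ 1 then S else seq (i - 2), ?_, hS3, hSA, ?_, ?_, ?_, ?_⟩
  · intro i hi hin
    by_cases h1 : i ≤ 1
    · simp only [if_pos h1]; rw [hS, show i = 1 by omega]
    · simp only [if_neg h1]; exact (hv i (by omega) hin).1
  · intro i hi hin
    simp only [if_neg (show ¬ i ≤ 1 by omega)]
    exact (hv i hi hin).2
  · intro i hi hin
    obtain ⟨k, rfl⟩ : ∃ k, i = k + 2 := ⟨i - 2, by omega⟩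
    simp only [if_neg (show ¬ k + 2 ≤ 1 by omega), if_neg (show ¬ k + 2 + 1 ≤ 1 by omega)]
    rw [Nat.add_sub_cancel, show k + 2 + 1 - 2 = k + 1 by omega]
    exact ((hstep k (by omega)).2 (by omega)).2.2
  · intro j hj hjn
    simp only [if_neg (show ¬ j ≤ 1 by omega), if_pos (le_refl 1)]
    exact hSinv j hj hjn _ (hv j (by omega) hjn).1
  · intro i j hi hij hj
    simp only [if_neg (show ¬ i ≤ 1 by omega), if_neg (show ¬ j ≤ 1 by omega)]
    exact E.commute_mgen hAB hn hi hij hj (hv i hi (by omega)).1 (hv j (by omega) hj).1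

theorem card_le (hn : 4 ≤ n) (h67 : n ≠ 6 ∧ n ≠ 7) : Nat.card X * 2 ≤ n.factorial := by
  classical
  obtain ⟨g, hg, g3, g12, gsq, gbr, ginv, gcomm⟩ := E.exists_gens hAB hn h67
  let g' : ℕ → X := fun i => if i = 1 then (g 1)⁻¹ else g i
  let r : ℕ → Perm (X ⊕ X) := fun i => if i = 0 then twist 1 1 else twist (g i) (g' i)
  have r0 : r 0 = twist 1 1 := rfl
  have r1 : r 1 = twist (g 1) (g 1)⁻¹ := by simp [r, g']
  have r2 : ∀ i, 2 ≤ i → r i = twist (g i) (g i) := fun i hi => by
    simp [r, g', show i ≠ 0 by omega, show i ≠ 1 by omega]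
  have ginv' : ∀ i, 2 ≤ i → i + 1 < n → (g i)⁻¹ = g i := fun i hi hin =>
    inv_eq_of_mul_eq_one_left (gsq i hi hin)
  have hrels : SymCoxeter.Rels r (n - 1) := by
    refine ⟨fun i hi => ?_, fun i hi => ?_, fun i j hij hj => ?_⟩
    · rcases lt_trichotomy i 1 with h | h | h
      · obtain rfl : i = 0 := by omega
        rw [r0, twist_mul, one_mul, pairPerm_one]
      · subst h
        rw [r1, twist_mul, inv_mul_cancel, mul_inv_cancel, pairPerm_one]
      · rw [r2 i h, twist_mul, gsq i h (by omega), pairPerm_one]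
    · rcases Nat.lt_or_ge i 2 with h | h
      · rcases Nat.lt_or_ge i 1 with h0 | h0
        · obtain rfl : i = 0 := by omega
          rw [r0, zero_add, r1, twist_mul, twist_mul, pair_twist, pair_twist]
          simp only [one_mul, mul_one]
          congr 1
          · exact inv_eq_of_mul_eq_one_left g3
          · rw [← mul_inv_rev]
            exact eq_inv_of_mul_eq_one_left (by rw [← mul_assoc, g3])
        · obtain rfl : i = 1 := by omega
          have e2 := gsq 2 le_rfl (by omega)
          have e2' := ginv' 2 le_rfl (by omega)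
          rw [r1, r2 2 le_rfl, twist_mul, twist_mul, pair_twist, pair_twist]
          have k1 : g 1 * g 2 * g 1 = g 2 * (g 1)⁻¹ * g 2 := by
            have h : g 1 * g 2 * g 1 * (g 2 * g 1 * g 2) = 1 := by rw [← g12]; group
            rw [eq_inv_of_mul_eq_one_left h, mul_inv_rev, mul_inv_rev, e2', mul_assoc]
          have k2 : (g 1)⁻¹ * g 2 * (g 1)⁻¹ = g 2 * g 1 * g 2 := by
            have := congrArg (·⁻¹) k1
            simp only [mul_inv_rev, inv_inv, e2'] at this
            rw [mul_assoc, this, ← mul_assoc]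
          rw [k1, k2]
      · rw [r2 i h, r2 (i + 1) (by omega), twist_mul, twist_mul, pair_twist, pair_twist,
          gbr i h (by omega)]
    · rcases Nat.lt_or_ge i 2 with h | h
      · rcases Nat.lt_or_ge i 1 with h0 | h0
        · obtain rfl : i = 0 := by omega
          rw [r0, r2 j (by omega), twist_mul, twist_mul]
          simp
        · obtain rfl : i = 1 := by omega
          have e := ginv j (by omega) (by omega)
          rw [mul_inv_eq_iff_eq_mul] at e
          rw [r1, r2 j (by omega), twist_mul, twist_mul]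
          have e' : g j * (g 1)⁻¹ = g 1 * g j := by
            rw [mul_inv_eq_iff_eq_mul, mul_assoc, e, mul_inv_cancel_left]
          rw [e, e']
      · rw [r2 i h, r2 j (by omega), twist_mul, twist_mul, gcomm i j h (by omega) (by omega)]
  obtain ⟨T, hT, hTs⟩ := SymCoxeter.exists_cover r (n - 1) hrels
  rw [show n - 1 + 1 = n by omega] at hT
  set R := SymCoxeter.gen r (n - 1) with hR
  have hr0 : r 0 ∈ R := SymCoxeter.mem_gen (by omega)
  let M : Submonoid X :=
    { carrier := {x | ∃ y, pairPerm x y ∈ R}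
      one_mem' := ⟨1, by rw [pairPerm_one]; exact one_mem _⟩
      mul_mem' := fun {x x'} ⟨y, hy⟩ ⟨y', hy'⟩ => ⟨y * y', by rw [← pairPerm_mul]; exact mul_mem hy hy'⟩ }
  let M' : Subgroup X :=
    { M with
      inv_mem' := fun {x} ⟨y, hy⟩ => ⟨y⁻¹, by
        rw [show pairPerm x⁻¹ y⁻¹ = (pairPerm x y)⁻¹ from eq_inv_of_mul_eq_one_left (by
          rw [pairPerm_mul, inv_mul_cancel, inv_mul_cancel, pairPerm_one])]
        exact inv_mem hy⟩ }
  have hgM : ∀ i, 1 ≤ i → i + 1 < n → g i ∈ M' := fun i hi hin => ⟨g' i, by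
    have h := mul_mem hr0 (SymCoxeter.mem_gen (s := r) (n := n - 1) (i := i) (by omega))
    rw [r0, show r i = twist (g i) (g' i) from if_neg (by omega), twist_mul, one_mul, one_mul] at h
    exact h⟩
  set P : Subgroup X := Subgroup.closure (g '' {i | 1 ≤ i ∧ i + 1 < n}) with hP
  have hPM : P ≤ M' := by
    rw [hP, Subgroup.closure_le]
    rintro _ ⟨i, ⟨h1, h2⟩, rfl⟩
    exact hgM i h1 h2
  have hgP : ∀ i, 1 ≤ i → i + 1 < n → g i ∈ P := fun i h1 h2 =>
    Subgroup.subset_closure ⟨i, ⟨h1, h2⟩, rfl⟩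
  have hlift : ∀ x : X, ∃ p ∈ P, π p = π x := by
    intro x
    have hmem : π x ∈ P.map π := by
      refine mgen_closure (by omega) (P.map π) (fun i h1 h2 => ⟨g i, hgP i h1 h2, hg i h1 h2⟩) (E.even x)
        (fun m ⟨p, _, hp⟩ => hp ▸ E.even p) ?_
      rintro _ ⟨p, hp, rfl⟩
      induction hp using Subgroup.closure_induction with
      | mem y hy =>
        obtain ⟨i, ⟨h1, h2⟩, rfl⟩ := hy
        rw [hg i h1 h2]
        have hconj : swp n 0 1 * mgen n i * swp n 0 1 = swp n i (i + 1) * swp n 0 1 := by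
          rw [mgen, ← mul_assoc, swp_sq, one_mul]
        rw [hconj]
        rcases Nat.eq_or_lt_of_le h1 with rfl | h3
        · refine ⟨(g 1)⁻¹, P.inv_mem (hgP 1 le_rfl h2), ?_⟩
          rw [map_inv, hg 1 le_rfl h2, mgen, mul_inv_rev]
          rw [inv_eq_of_mul_eq_one_left (swp_sq 1 (1 + 1)), inv_eq_of_mul_eq_one_left (swp_sq 0 1)]
        · refine ⟨g i, hgP i h1 h2, ?_⟩
          rw [hg i h1 h2, mgen, swp_def (by omega) (by omega), swp_def (by omega) h2]
          refine (Perm.disjoint_swap_swap ?_).commute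
          simp [Fin.ext_iff]
          omega
      | one => exact ⟨1, P.one_mem, by rw [map_one, mul_one, swp_sq]⟩
      | mul y z _ _ hy hz =>
        obtain ⟨p, hp, hp'⟩ := hy
        obtain ⟨q, hq, hq'⟩ := hz
        refine ⟨p * q, P.mul_mem hp hq, ?_⟩
        rw [map_mul, hp', hq', map_mul]
        calc swp n 0 1 * π y * swp n 0 1 * (swp n 0 1 * π z * swp n 0 1)
            = swp n 0 1 * π y * (swp n 0 1 * swp n 0 1) * π z * swp n 0 1 := by group
          _ = _ := by rw [swp_sq]; group
      | inv y _ hy =>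
        obtain ⟨p, hp, hp'⟩ := hy
        refine ⟨p⁻¹, P.inv_mem hp, ?_⟩
        rw [map_inv, hp', map_inv, mul_inv_rev, mul_inv_rev, inv_eq_of_mul_eq_one_left (swp_sq 0 1)]
        group
    exact hmem
  have htop : P = ⊤ := by
    rw [eq_top_iff]
    have hdec : ∀ x : X, ∃ p ∈ P, ∃ z, π z = 1 ∧ x = p * z := fun x => by
      obtain ⟨p, hp, hpx⟩ := hlift x
      obtain ⟨z, hz, rfl⟩ := E.exists_mul (x := x) (y := p) hpx.symm
      exact ⟨p, hp, z, hz, rfl⟩
    intro x _
    obtain ⟨p, hp, z, hz, rfl⟩ := hdec x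
    refine P.mul_mem hp ?_
    have hc : commutator X ≤ P := by
      rw [commutator_def, Subgroup.commutator_le]
      intro u _ v _
      obtain ⟨p, hp, z, hz, rfl⟩ := hdec u
      obtain ⟨q, hq, w, hw, rfl⟩ := hdec v
      have e : ⁅p * z, q * w⁆ = ⁅p, q⁆ := by
        simp only [commutatorElement_def, mul_inv_rev]
        calc p * z * (q * w) * (z⁻¹ * p⁻¹) * (w⁻¹ * q⁻¹)
            = p * (z * (q * w)) * z⁻¹ * p⁻¹ * w⁻¹ * q⁻¹ := by group
          _ = p * q * (w * p⁻¹) * w⁻¹ * q⁻¹ := by rw [(E.cen hz (q * w)).eq]; group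
          _ = p * q * p⁻¹ * q⁻¹ := by rw [(E.cen hw p⁻¹).eq]; group
      rw [e, commutatorElement_def]
      exact P.mul_mem (P.mul_mem (P.mul_mem hp hq) (P.inv_mem hp)) (P.inv_mem hq)
    exact hc (E.comm (MonoidHom.mem_ker.mpr hz))
  have hMtop : ∀ x : X, ∃ y, pairPerm x y ∈ R := fun x => hPM (htop ▸ Subgroup.mem_top x)
  have horb : ∀ w : X ⊕ X, ∃ ρ ∈ T, ρ (Sum.inl 1) = w := by
    rintro (x | x) <;> obtain ⟨y, hy⟩ := hMtop x
    · exact ⟨_, hTs _ hy, by simp [pairPerm]⟩
    · exact ⟨_, hTs _ (mul_mem hr0 hy), by simp [r0, twist, pairPerm]⟩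
  choose ρ hρT hρ using horb
  calc Nat.card X * 2 = Nat.card (X ⊕ X) := by rw [Nat.card_sum]; ring
    _ ≤ Nat.card T := Nat.card_le_card_of_injective (fun w => (⟨ρ w, hρT w⟩ : T)) fun w w' e => by
        rw [← hρ w, ← hρ w', show ρ w = ρ w' from congrArg Subtype.val e]
    _ ≤ _ := by rw [Nat.card_eq_fintype_card, Fintype.card_coe]; exact hT

end Ext

/-- The kernel has order at most two. -/
theorem card_ker_le_two {π : X →* Perm (Fin n)} (E : Ext π) (hn : 4 ≤ n) (h67 : n ≠ 6 ∧ n ≠ 7) :
    Nat.card π.ker ≤ 2 := by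
  obtain ⟨A, hA⟩ := E.lift _ (sign_mgen (n := n) (i := 2) (by omega) (by omega))
  obtain ⟨B, hB⟩ := E.lift _ (sign_bgen (n := n) hn)
  set c := ⁅A, B⁆ with hc
  have hcomm : π c = 1 := by
    have hF := four_point (n := n) hn
    have h1 : mgen n 2 * bgen n = bgen n * mgen n 2 := by
      let v : Fin 4 → ℕ := ![0, 1, 2, 3]
      have hv : StrictMono v := strictMono_cons v fun j => by fin_cases j <;> simp [v]
      have hvn : ∀ x, v x < n := fun x => by fin_cases x <;> simp [v] <;> omega
      have e2 : mgen n 2 = phi v hv hvn (swap 0 1 * swap 2 3) := by rw [map_mul, phi_swap, phi_swap]; rfl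
      have e3 : bgen n = phi v hv hvn (swap 0 3 * swap 1 2) := by rw [map_mul, phi_swap, phi_swap]; rfl
      rw [e2, e3, ← map_mul, ← map_mul]
      exact congrArg (phi v hv hvn) (by decide)
    rw [hc, map_commutatorElement, hA, hB, commutatorElement_eq_one_iff_mul_comm.mpr h1]
  have hc2 : c * c = 1 := by
    have hu : π (A * A) = 1 := by rw [map_mul, hA, mgen_sq le_rfl (by omega)]
    have h := E.cen hcomm
    have e : A * B * A⁻¹ = c * B := by rw [hc, commutatorElement_def]; group
    have e2 : A * A * B * (A * A)⁻¹ = c * c * B := by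
      rw [show A * A * B * (A * A)⁻¹ = A * (A * B * A⁻¹) * A⁻¹ by group, e,
        show A * (c * B) * A⁻¹ = (A * c) * B * A⁻¹ by group, ← (h A).eq,
        show c * A * B * A⁻¹ = c * (A * B * A⁻¹) by group, e, mul_assoc]
    rw [(E.cen hu B).eq, mul_inv_cancel_right] at e2
    exact mul_right_cancel (b := B) (e2.symm.trans (one_mul B).symm)
  set Z := Subgroup.zpowers c with hZ
  have hZker : Z ≤ π.ker := Subgroup.zpowers_le.mpr (MonoidHom.mem_ker.mpr hcomm)
  haveI : Z.Normal := ⟨fun z hz g => by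
    rw [← ((E.cen (MonoidHom.mem_ker.mp (hZker hz)) g)).eq, mul_inv_cancel_right]; exact hz⟩
  let π' : X ⧸ Z →* Perm (Fin n) := QuotientGroup.lift Z π hZker
  have E' : Ext π' := by
    refine ⟨fun q hq => ?_, fun q hq => ?_, fun σ hσ => ?_, fun q => ?_⟩
    · obtain ⟨x, rfl⟩ := QuotientGroup.mk_surjective q
      rw [Subgroup.mem_center_iff]
      intro r
      obtain ⟨y, rfl⟩ := QuotientGroup.mk_surjective r
      rw [← QuotientGroup.mk_mul, ← QuotientGroup.mk_mul, (E.cen (show π x = 1 from hq) y).eq]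
    · obtain ⟨x, rfl⟩ := QuotientGroup.mk_surjective q
      have h := E.comm (show x ∈ π.ker from hq)
      have h2 : Subgroup.map (QuotientGroup.mk' Z) (commutator X) ≤ commutator (X ⧸ Z) := by
        rw [commutator_def, commutator_def, Subgroup.map_commutator]
        exact Subgroup.commutator_mono le_top le_top
      exact h2 ⟨x, h, rfl⟩
    · obtain ⟨x, hx⟩ := E.lift σ hσ
      exact ⟨x, hx⟩
    · obtain ⟨x, rfl⟩ := QuotientGroup.mk_surjective q
      exact E.even x
  have hle := E'.card_le (fun a b ha hb => by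
    obtain ⟨x, rfl⟩ := QuotientGroup.mk_surjective a
    obtain ⟨y, rfl⟩ := QuotientGroup.mk_surjective b
    have hAB : Commute (A : X ⧸ Z) (B : X ⧸ Z) := by
      refine commutatorElement_eq_one_iff_commute.mp ?_
      exact (map_commutatorElement (QuotientGroup.mk' Z) A B).symm.trans
        ((QuotientGroup.eq_one_iff _).mpr (Subgroup.mem_zpowers c))
    exact (E'.commute_of_eq (show π' x = π' A from ha.trans hA.symm)
      (E'.commute_of_eq (show π' y = π' B from hb.trans hB.symm) hAB).symm).symm) hn h67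
  have hmul := E.card_ker_mul (by omega)
  have hQ := Subgroup.card_eq_card_quotient_mul_card_subgroup Z
  have hZ2 : Nat.card Z ≤ 2 := by
    rw [hZ, Nat.card_zpowers]
    exact Nat.le_of_dvd (by norm_num) (orderOf_dvd_of_pow_eq_one (by rw [pow_two, hc2]))
  have hkey : Nat.card π.ker * n.factorial ≤ 2 * n.factorial := by
    rw [← hmul, hQ]
    calc Nat.card (X ⧸ Z) * Nat.card Z * 2 = Nat.card Z * (Nat.card (X ⧸ Z) * 2) := by ring
      _ ≤ 2 * n.factorial := Nat.mul_le_mul hZ2 hle
  exact Nat.le_of_mul_le_mul_right hkey (Nat.factorial_pos n)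

end Cfsg.Agent.AltMult
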