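import Cfsg.Agent.Lib.AltMult.Basic
import Mathlib.GroupTheory.Transfer
import Mathlib.GroupTheory.SpecificGroups.Cyclic
import Mathlib.GroupTheory.SpecificGroups.Alternating

/-!
# The multiplier of the alternating group has order at most two away from degrees six and seven
-/

set_option autoImplicit false
set_option linter.style.haveILetI false
set_option linter.unusedSectionVars false

namespace Cfsg.Agent.AltMult

open Equiv
open scoped commutatorElement

variable {n : ℕ} {X : Type*} [Group X] [Finite X] {π : X →* Perm (Fin n)}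

theorem sign_mgen {i : ℕ} (hi : 1 ≤ i) (h : i + 1 < n) : Perm.sign (mgen n i) = 1 :=
  sign_two (by omega) (by omega) (by omega) h (by omega) (by omega)

theorem sign_bgen (h : 4 ≤ n) : Perm.sign (bgen n) = 1 :=
  sign_two (by omega) (by omega) (by omega) (by omega) (by omega) (by omega)

theorem cube_mul {G : Type*} [Group G] {a z : G} (h : Commute a z) :
    a * z * (a * z) * (a * z) = a * a * a * (z * z * z) := by
  simpa [pow_succ] using h.mul_pow 3

theorem sq_mul {G : Type*} [Group G] {a z : G} (h : Commute a z) :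
    a * z * (a * z) = a * a * (z * z) := by
  simpa [pow_succ] using h.mul_pow 2

namespace Ext

variable (E : Ext π)
include E

theorem card_ker_mul (hn : 2 ≤ n) : Nat.card X * 2 = Nat.card π.ker * n.factorial := by
  haveI : Nontrivial (Fin n) := ⟨⟨⟨0, by omega⟩, ⟨1, by omega⟩, fun e => absurd (congrArg Fin.val e) (by norm_num)⟩⟩
  have hr : π.range = alternatingGroup (Fin n) := by
    ext σ
    rw [Perm.mem_alternatingGroup]
    exact ⟨fun ⟨x, hx⟩ => hx ▸ E.even x, fun h => E.lift σ h⟩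
  have h := Subgroup.index_mul_card π.ker
  rw [Subgroup.index_ker, hr] at h
  have h2 := two_mul_nat_card_alternatingGroup (α := Fin n)
  rw [Nat.card_perm, Nat.card_fin] at h2
  rw [← h, ← h2]; ring

/-- The transfer: a central element of the derived group has fourth power one in degree four. -/
theorem pow_four (hn : n = 4) {z : X} (hz : π z = 1) : z ^ 4 = 1 := by
  subst hn
  set U : Subgroup (Perm (Fin 4)) := Subgroup.zpowers (mgen 4 1) with hU
  set H : Subgroup X := U.comap π with hH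
  have hker : π.ker ≤ H := fun x hx => by
    rw [hH, Subgroup.mem_comap, MonoidHom.mem_ker.mp hx]; exact one_mem _
  let f : H →* U := π.subgroupComap U
  have hcomm : ∀ a b : H, a * b = b * a := commutative_of_cyclic_center_quotient f fun x hx => by
    rw [Subgroup.mem_center_iff]
    exact fun y => Subtype.ext ((E.cen (congrArg Subtype.val (MonoidHom.mem_ker.mp hx)) (y : X)).symm)
  letI : CommGroup H := { (inferInstance : Group H) with mul_comm := hcomm }
  have key : ∀ (k : ℕ) (g : X), g⁻¹ * z ^ k * g ∈ H → g⁻¹ * z ^ k * g = z ^ k := fun k g _ => by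
    rw [mul_assoc, ((E.cen hz g).pow_left k).eq, inv_mul_cancel_left]
  have h := MonoidHom.transfer_eq_pow (MonoidHom.id H) z key
  have h0 : (MonoidHom.id H).transfer z = 1 :=
    Abelianization.commutator_subset_ker _ (E.comm (MonoidHom.mem_ker.mpr hz))
  rw [h0] at h
  have h1 : z ^ H.index = 1 := (congrArg Subtype.val h).symm
  have hrange : π.range = alternatingGroup (Fin 4) := by
    ext σ
    rw [Perm.mem_alternatingGroup]
    exact ⟨fun ⟨x, hx⟩ => hx ▸ E.even x, fun h => E.lift σ h⟩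
  have hi : H.index = 4 := by
    have hle : U ≤ π.range := by
      rw [hrange, hU, Subgroup.zpowers_le]
      exact Perm.mem_alternatingGroup.mpr (sign_mgen le_rfl (by norm_num))
    rw [hH, Subgroup.index_comap, Subgroup.relIndex, hrange]
    rw [hrange] at hle
    have hc := Subgroup.card_mul_index (U.subgroupOf (alternatingGroup (Fin 4)))
    rw [Nat.card_congr (Subgroup.subgroupOfEquivOfLe hle).toEquiv, hU, Nat.card_zpowers,
      nat_card_alternatingGroup, Nat.card_fin] at hc
    have ho : orderOf (mgen 4 1) = 3 := by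
      haveI : Fact (Nat.Prime 3) := ⟨Nat.prime_three⟩
      exact orderOf_eq_prime (by rw [pow_three, ← mul_assoc]; exact mgen_one_cube (by norm_num))
        (by decide)
    rw [ho] at hc
    rw [show Nat.factorial 4 / 2 = 12 from rfl] at hc
    rw [hU]
    omega
  rwa [hi] at h1

theorem exists_mgen_one (hn : 4 ≤ n) (h67 : n ≠ 6 ∧ n ≠ 7) :
    ∃ S : X, π S = mgen n 1 ∧ S * S * S = 1 ∧
      ∀ j, 3 ≤ j → j + 1 < n → ∀ T : X, π T = mgen n j → T * S * T⁻¹ = S⁻¹ := by
  obtain ⟨S₀, hS₀⟩ := E.lift _ (sign_mgen (n := n) le_rfl (by omega))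
  set u := S₀ * S₀ * S₀ with hu
  have hu1 : π u = 1 := by rw [hu, map_mul, map_mul, hS₀, mgen_one_cube (by omega)]
  have hscale : ∀ z, π z = 1 → S₀ * z * (S₀ * z) * (S₀ * z) = u * (z * z * z) := fun z hz => by
    exact cube_mul (E.cen hz S₀).symm
  rcases Nat.eq_or_lt_of_le hn with h4 | h5
  · refine ⟨S₀ * u, by rw [map_mul, hu1, mul_one, hS₀], ?_, fun j hj hj' => by omega⟩
    rw [hscale u hu1, ← pow_four E h4.symm hu1]
    simp [pow_succ, mul_assoc]
  obtain ⟨T₀, hT₀⟩ := E.lift _ (sign_mgen (n := n) (i := 3) (by omega) (by omega))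
  set k := S₀ * (T₀ * S₀ * T₀⁻¹) with hk
  have hinv : ∀ j, 3 ≤ j → j + 1 < n → mgen n j * mgen n 1 * (mgen n j)⁻¹ = (mgen n 1)⁻¹ := by
    intro j hj hj'
    rw [inv_eq_of_mul_eq_one_left (mgen_sq (n := n) (i := j) (by omega) hj')]
    exact (eq_inv_of_mul_eq_one_left (mgen_invert hj hj'))
  have hk1 : π k = 1 := by
    rw [hk, map_mul, map_mul, map_mul, map_inv, hS₀, hT₀, hinv 3 le_rfl (by omega), mul_inv_cancel]
  have hTS : T₀ * S₀ * T₀⁻¹ = S₀⁻¹ * k := by rw [hk, inv_mul_cancel_left]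
  have hcube : k * k * k = u * u := by
    have h1 : (T₀ * S₀ * T₀⁻¹) * (T₀ * S₀ * T₀⁻¹) * (T₀ * S₀ * T₀⁻¹) = u := by
      rw [show (T₀ * S₀ * T₀⁻¹) * (T₀ * S₀ * T₀⁻¹) * (T₀ * S₀ * T₀⁻¹) = T₀ * u * T₀⁻¹ by rw [hu]; group,
        ← (E.cen hu1 T₀).eq, mul_inv_cancel_right]
    rw [hTS] at h1
    have hc := E.cen hk1 S₀⁻¹
    have h2 : S₀⁻¹ * k * (S₀⁻¹ * k) * (S₀⁻¹ * k) = u⁻¹ * (k * k * k) := by
      rw [cube_mul hc.symm, hu]; group
    rw [h2, inv_mul_eq_iff_eq_mul] at h1
    exact h1
  set z := k * u⁻¹ with hz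
  have hz1 : π z = 1 := by rw [hz, map_mul, map_inv, hk1, hu1, inv_one, mul_one]
  have hku : Commute k u⁻¹ := E.cen hk1 _
  have hzz : z * z * k = 1 := by
    calc z * z * k = k * k * (u⁻¹ * u⁻¹) * k := by rw [hz, sq_mul hku]
      _ = k * k * k * (u * u)⁻¹ := by
        rw [mul_assoc (k * k), ← (E.cen hk1 (u⁻¹ * u⁻¹)).eq, ← mul_assoc]
        group
      _ = 1 := by rw [hcube, mul_inv_cancel]
  set S := S₀ * z with hS
  have hS1 : π S = mgen n 1 := by rw [hS, map_mul, hz1, mul_one, hS₀]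
  have hS3 : S * S * S = 1 := by
    rw [hS, hscale z hz1]
    have e : z * z = k⁻¹ := eq_inv_of_mul_eq_one_left hzz
    rw [e, hz, inv_mul_cancel_left, mul_inv_cancel]
  have hT₀S : T₀ * S * T₀⁻¹ = S⁻¹ := by
    rw [eq_inv_iff_mul_eq_one, hS]
    calc T₀ * (S₀ * z) * T₀⁻¹ * (S₀ * z) = T₀ * S₀ * (z * T₀⁻¹) * (S₀ * z) := by group
      _ = T₀ * S₀ * T₀⁻¹ * (z * S₀) * z := by rw [(E.cen hz1 T₀⁻¹).eq]; group
      _ = S₀⁻¹ * (k * S₀) * (z * z) := by rw [hTS, (E.cen hz1 S₀).eq]; group
      _ = k * (z * z) := by rw [(E.cen hk1 S₀).eq]; group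
      _ = 1 := by
        rw [(E.cen hk1 (z * z)).eq]
        exact hzz
  refine ⟨S, hS1, hS3, fun j hj hj' T hT => ?_⟩
  obtain ⟨G, hG, hGj, hGG⟩ : ∃ G : X, π G * mgen n 1 = mgen n 1 * π G ∧
      π G * mgen n 3 = mgen n j * π G ∧ π G * π G = 1 := by
    rcases Nat.eq_or_lt_of_le hj with rfl | hj4
    · exact ⟨1, by simp, by simp, by simp⟩
    rcases Nat.eq_or_lt_of_le hj4 with rfl | hj5
    · obtain ⟨G, hG⟩ := E.lift (swp n 3 5 * swp n 6 7)
        (sign_two (by omega) (by omega) (by omega) (by omega) (by omega) (by omega))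
      refine ⟨G, ?_, ?_, ?_⟩ <;> rw [hG]
      · exact conj_one_swp (by omega) (by omega) (by omega) (by omega) (by omega) (by omega) (by omega) (by omega)
      · exact conj_three_four (by omega)
      · have hc : Commute (swp n 3 5) (swp n 6 7) := by
          rw [swp_def (by omega) (by omega), swp_def (by omega) (by omega)]
          refine (Perm.disjoint_swap_swap ?_).commute
          simp [Fin.ext_iff]
        rw [← mul_assoc, mul_assoc (swp n 3 5), ← hc.eq, ← mul_assoc, swp_sq, one_mul, swp_sq]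
    · obtain ⟨G, hG⟩ := E.lift (swp n 3 j * swp n 4 (j + 1))
        (sign_two (by omega) (by omega) (by omega) (by omega) (by omega) (by omega))
      refine ⟨G, ?_, ?_, ?_⟩ <;> rw [hG]
      · exact conj_one_swp (by omega) (by omega) (by omega) (by omega) (by omega) (by omega) (by omega) (by omega)
      · exact conj_three_far hj5 hj'
      · have hc : Commute (swp n 3 j) (swp n 4 (j + 1)) := by
          rw [swp_def (by omega) (by omega), swp_def (by omega) (by omega)]
          refine (Perm.disjoint_swap_swap ?_).commute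
          simp [Fin.ext_iff]
          omega
        rw [← mul_assoc, mul_assoc (swp n 3 j), ← hc.eq, ← mul_assoc, swp_sq, one_mul, swp_sq]
  obtain ⟨t, ht, hGS⟩ := E.exists_mul (x := G * S * G⁻¹) (y := S) (by
    rw [map_mul, map_mul, map_inv, hS1, hG, mul_inv_cancel_right])
  have ht3 : t * t * t = 1 := by
    have h : (S * t) * (S * t) * (S * t) = 1 := by
      rw [← hGS, show G * S * G⁻¹ * (G * S * G⁻¹) * (G * S * G⁻¹) = G * (S * S * S) * G⁻¹ by group, hS3]
      group
    rwa [cube_mul (E.cen ht S).symm, hS3, one_mul] at h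
  have ht2 : t * t = 1 := by
    have hGG' : Commute (G * G) S := E.cen (by rw [map_mul, hGG]) S
    have h : G * G * S * (G * G)⁻¹ = S * (t * t) := by
      rw [show G * G * S * (G * G)⁻¹ = G * (G * S * G⁻¹) * G⁻¹ by group, hGS,
        show G * (S * t) * G⁻¹ = G * S * (t * G⁻¹) by group, (E.cen ht G⁻¹).eq,
        show G * S * (G⁻¹ * t) = G * S * G⁻¹ * t by group, hGS, mul_assoc]
    rw [hGG'.eq, mul_inv_cancel_right] at h
    exact mul_left_cancel (a := S) (h.symm.trans (mul_one S).symm)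
  have ht1 : t = 1 := by rwa [ht2, one_mul] at ht3
  rw [ht1, mul_one] at hGS
  obtain ⟨w, hw, rfl⟩ := E.exists_mul (x := T) (y := G * T₀ * G⁻¹) (by
    rw [hT, map_mul, map_mul, map_inv, hT₀, hGj, mul_inv_cancel_right])
  have hGS' : Commute G S := mul_inv_eq_iff_eq_mul.mp hGS
  calc G * T₀ * G⁻¹ * w * S * (G * T₀ * G⁻¹ * w)⁻¹
      = G * T₀ * G⁻¹ * (w * S * w⁻¹) * (G * T₀⁻¹ * G⁻¹) := by group
    _ = G * T₀ * (G⁻¹ * S) * (G * T₀⁻¹ * G⁻¹) := by rw [(E.cen hw S).eq, mul_inv_cancel_right]; group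
    _ = G * (T₀ * S * T₀⁻¹) * G⁻¹ := by rw [(hGS'.inv_left).eq]; group
    _ = S⁻¹ := by rw [hT₀S, (hGS'.inv_right).eq, mul_inv_cancel_right]

variable (hAB : ∀ A B : X, π A = mgen n 2 → π B = bgen n → Commute A B)
include hAB

theorem commute_mgen (hn : 4 ≤ n) {i j : ℕ} (hi : 2 ≤ i) (hij : i + 2 ≤ j) (hj : j + 1 < n)
    {a b : X} (ha : π a = mgen n i) (hb : π b = mgen n j) : Commute a b := by
  obtain ⟨A, hA⟩ := E.lift _ (sign_mgen (n := n) (i := 2) (by omega) (by omega))
  obtain ⟨B, hB⟩ := E.lift _ (sign_bgen (n := n) hn)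
  obtain ⟨W, hW⟩ := E.lift _ (sign_mgen (n := n) (i := 4) (by omega) (by omega))
  have hAY : Commute A (A * B) := (Commute.refl A).mul_right (hAB A B hA hB)
  obtain ⟨t, ht, hsq⟩ := E.exists_mul (x := A) (y := A * B * W * (A * B * W)) (by
    simp only [map_mul, hA, hB, hW]
    exact (sq_mixed (by omega)).symm)
  have hAQ : Commute A (A * B * W) := by
    have h1 : Commute (A * B * W * (A * B * W) * t) (A * B * W) :=
      ((Commute.refl _).mul_left (Commute.refl _)).mul_left (E.cen ht _)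
    rwa [← hsq] at h1
  have hAW : Commute A W := by
    have := hAY.inv_right.mul_right hAQ
    rwa [inv_mul_cancel_left] at this
  let f : Fin 6 → Fin n := fun x => ⟨x.val, by omega⟩
  let v : Fin 6 → ℕ := ![0, 1, i, i + 1, j, j + 1]
  have hv : StrictMono v := strictMono_cons v fun k => by fin_cases k <;> simp [v] <;> omega
  have hvn : ∀ x, v x < n := fun x => by fin_cases x <;> simp [v] <;> omega
  obtain ⟨g, hg⟩ := Equiv.Perm.exists_extending_pair f (fun x => (⟨v x, hvn x⟩ : Fin n))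
    (fun x y e => Fin.ext (congrArg (fun w : Fin n => w.val) e :))
    (fun x y e => hv.injective (congrArg Fin.val e))
  set g' : Perm (Fin n) := if Perm.sign g = 1 then g else swp n 0 1 * g with hg'
  have hsg : Perm.sign g' = 1 := by
    rw [hg']
    split_ifs with h
    · exact h
    · rw [map_mul, sign_swp (by omega) (by omega) (by omega),
        (Int.units_eq_one_or (Perm.sign g)).resolve_left h]
      rfl
  have hval : ∀ x : Fin 6, 2 ≤ x.val → g' (f x) = ⟨v x, hvn x⟩ := by
    intro x hx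
    rw [hg']
    split_ifs with h
    · exact hg x
    · rw [Perm.mul_apply, hg x, swp_def (by omega) (by omega), swap_apply_of_ne_of_ne] <;>
        simp only [ne_eq, Fin.ext_iff] <;> fin_cases x <;> simp [v] at hx ⊢ <;> omega
  have h01 : swap (g' (f 0)) (g' (f 1)) = swp n 0 1 := by
    rw [hg', swp_def (show 0 < n by omega) (show 1 < n by omega)]
    split_ifs with h
    · rw [hg, hg]; rfl
    · rw [Perm.mul_apply, Perm.mul_apply, hg, hg]
      show swap (swap _ _ (⟨0, _⟩ : Fin n)) (swap _ _ (⟨1, _⟩ : Fin n)) = _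
      rw [swap_apply_left, swap_apply_right, swap_comm]
  refine E.commute_conj (g := g') hsg ?_ ?_ hAW
  · rw [ha, hA, mgen, mgen, ← conj_mul, conj_swp g' (by omega) (by omega), conj_swp g' (by omega) (by omega)]
    have e2 := hval 2 (by decide)
    have e3 := hval 3 (by decide)
    show _ = swap (g' (f 0)) (g' (f 1)) * swap (g' (f 2)) (g' (f 3))
    rw [h01, e2, e3, swp_def (show i < n by omega) (show i + 1 < n by omega)]
    rfl
  · rw [hb, hW, mgen, mgen, ← conj_mul, conj_swp g' (by omega) (by omega), conj_swp g' (by omega) (by omega)]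
    have e2 := hval 4 (by decide)
    have e3 := hval 5 (by decide)
    show _ = swap (g' (f 0)) (g' (f 1)) * swap (g' (f 4)) (g' (f 5))
    rw [h01, e2, e3, swp_def (show j < n by omega) (show j + 1 < n by omega)]
    rfl

theorem exists_mgen_two (hn : 4 ≤ n) {S : X} (hS : π S = mgen n 1) (hS3 : S * S * S = 1) :
    ∃ A : X, π A = mgen n 2 ∧ A * A = 1 ∧ S * A * (S * A) * (S * A) = 1 := by
  obtain ⟨A, hA⟩ := E.lift _ (sign_mgen (n := n) (i := 2) (by omega) (by omega))
  set B := S * A * S⁻¹ with hB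
  set C := S * B * S⁻¹ with hC
  set u := A * A with hu
  have hB' : π B = bgen n := by rw [hB, map_mul, map_mul, map_inv, hS, hA, (four_point hn).1]
  have hu1 : π u = 1 := by rw [hu, map_mul, hA, mgen_sq le_rfl (by omega)]
  obtain ⟨t, ht, hCt⟩ := E.exists_mul (x := C) (y := A * B) (by
    rw [hC, map_mul, map_mul, map_inv, hS, hB', (four_point hn).2, map_mul, hA, hB'])
  have hSS : S⁻¹ = S * S := inv_eq_of_mul_eq_one_left hS3
  have hCA : S * C * S⁻¹ = A := by
    rw [hC, hB, show S * (S * (S * A * S⁻¹) * S⁻¹) * S⁻¹ = (S * S * S) * A * (S * S * S)⁻¹ by group, hS3]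
    group
  have hBB : B * B = u := by
    rw [hB, show S * A * S⁻¹ * (S * A * S⁻¹) = S * u * S⁻¹ by rw [hu]; group, ← (E.cen hu1 S).eq,
      mul_inv_cancel_right]
  have hc : Commute A B := hAB A B hA hB'
  have hA2 : A = A * (u * (t * t)) := by
    have h1 : S * C * S⁻¹ = B * (A * B * t) * t := by
      rw [hCt, show S * (A * B * t) * S⁻¹ = S * A * S⁻¹ * (S * B * S⁻¹) * (S * t * S⁻¹) by group, ← hB,
        ← hC, hCt, ← (E.cen ht S).eq, mul_inv_cancel_right]
    rw [hCA] at h1
    calc A = B * (A * B * t) * t := h1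
      _ = (B * A) * B * (t * t) := by group
      _ = A * (u * (t * t)) := by rw [← hc.eq, ← hBB]; group
  have hutt : u * (t * t) = 1 := mul_left_cancel (hA2.symm.trans (mul_one A).symm)
  set v := S * A * (S * A) * (S * A) with hv
  have hvt : v = t * (u * u) := by
    have h1 : v = B * C * A := by
      rw [hv, hC, hB]
      calc S * A * (S * A) * (S * A) = S * A * S⁻¹ * (S * (S * A * S⁻¹) * S⁻¹) * (S * S * S) * A := by group
        _ = S * A * S⁻¹ * (S * (S * A * S⁻¹) * S⁻¹) * A := by rw [hS3, mul_one]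
    rw [h1, hCt]
    calc B * (A * B * t) * A = B * A * B * (t * A) := by group
      _ = A * B * B * A * t := by rw [← hc.eq, (E.cen ht A).eq]; group
      _ = A * (u * A) * t := by rw [← hBB]; group
      _ = u * u * t := by rw [(E.cen hu1 A).eq, hu]; group
      _ = t * (u * u) := ((E.cen ht (u * u)).eq).symm
  have hv1 : π v = 1 := by rw [hvt, map_mul, map_mul, ht, hu1]; simp
  have hutu : Commute u t := E.cen hu1 t
  set z := u * v⁻¹ with hz
  have hze : z = u⁻¹ * t⁻¹ := by
    rw [hz, hvt]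
    group
  have hz1 : π z = 1 := by rw [hze, map_mul, map_inv, map_inv, hu1, ht]; simp
  have hzz : z * z = u⁻¹ := by
    have e : t * t = u⁻¹ := eq_inv_of_mul_eq_one_right hutt
    rw [hze, show u⁻¹ * t⁻¹ * (u⁻¹ * t⁻¹) = u⁻¹ * (t⁻¹ * u⁻¹) * t⁻¹ by group,
      (hutu.inv_inv.symm).eq, show u⁻¹ * (u⁻¹ * t⁻¹) * t⁻¹ = u⁻¹ * u⁻¹ * (t * t)⁻¹ by group, e, inv_inv,
      inv_mul_cancel_right]
  refine ⟨A * z, by rw [map_mul, hA, hz1, mul_one], ?_, ?_⟩
  · rw [sq_mul (E.cen hz1 A).symm, hzz, hu, mul_inv_cancel]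
  · rw [show S * (A * z) * (S * (A * z)) * (S * (A * z)) = S * A * z * (S * A * z) * (S * A * z) by group,
      cube_mul (E.cen hz1 (S * A)).symm, hzz, hze,
      show u⁻¹ * (u⁻¹ * t⁻¹) = (t * (u * u))⁻¹ by group, ← hv, hvt, mul_inv_cancel]

theorem exists_next {i : ℕ} (hi : 2 ≤ i) (h : i + 2 < n) {a : X} (ha : π a = mgen n i) (ha2 : a * a = 1) :
    ∃ b : X, π b = mgen n (i + 1) ∧ b * b = 1 ∧ a * b * a = b * a * b := by
  obtain ⟨b, hb⟩ := E.lift _ (sign_mgen (n := n) (i := i + 1) (by omega) h)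
  obtain ⟨t, ht, hbr⟩ := E.exists_mul (x := a * b * a) (y := b * a * b) (by
    simp only [map_mul, ha, hb]; exact mgen_braid hi h)
  have hc := E.cen ht
  have hbr' : a * (b * t) * a = b * t * a * (b * t) := by
    calc a * (b * t) * a = a * b * (t * a) := by group
      _ = a * b * a * t := by rw [(hc a).eq]; group
      _ = b * a * b * (t * t) := by rw [hbr]; group
      _ = b * (a * b * t) * t := by group
      _ = b * (t * (a * b)) * t := by rw [(hc (a * b)).eq]
      _ = _ := by group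
  refine ⟨b * t, by rw [map_mul, hb, ht, mul_one], ?_, hbr'⟩
  set c := b * t with hcdef
  have hc' : a * c * a * (a * c)⁻¹ = c := by
    rw [hbr']
    group
  calc c * c = a * c * a * (a * c)⁻¹ * (a * c * a * (a * c)⁻¹) := by rw [hc']
    _ = a * c * (a * a) * (a * c)⁻¹ := by group
    _ = 1 := by rw [ha2]; group

end Ext

end Cfsg.Agent.AltMult
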